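import Cfsg.Agent.H705.OreB.HNChk

/-!
# Every element of order 5 of the Harada-Norton group commutes with an involution (helper705)
-/

set_option autoImplicit false
set_option maxRecDepth 100000

namespace Cfsg.Agent.H705.OreB.HNFive

open Subgroup Cfsg Cfsg.Agent.H839.Rad.Ext Cfsg.Agent.H981.InvHN Cfsg.Agent.HN
open Cfsg.Agent.H705.OreB.HNChk
open Cfsg.Agent.H839.Rad.HN (W A B C₁ D F τ k ext e_fa1 e_fb1 e_fa2 e_fb2 FW e_taua1 e_taub1 e_taua2 e_taub2 e_tauw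
  e_ka1 e_kb1 e_ka2 e_kb2 e_kw F_Q A_eq F_eq e_b25 W_ne center_HN e_w5 G_A GC_mem W₁_mem)

/-- `x` is no element of order 5 or commutes with an involution -/
def I5 (x : Spor.HN) : Prop := x ^ 5 = 1 → ∃ u : Spor.HN, orderOf u = 2 ∧ u * x = x * u

theorem I5.of_pow {x : Spor.HN} {n : ℕ} (hn : n.Coprime 5) (h : I5 (x ^ n)) : I5 x := by
  intro hx
  obtain ⟨u, hu, hc⟩ := h (by rw [← pow_mul, mul_comm, pow_mul, hx, one_pow])
  refine ⟨u, hu, ?_⟩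
  have hco : n.Coprime (orderOf x) := Nat.Coprime.coprime_dvd_right (orderOf_dvd_of_pow_eq_one hx) hn
  obtain ⟨m, hm⟩ := exists_pow_eq_self_of_coprime hco
  have h1 : Commute u (x ^ n) := hc
  have h2 := h1.pow_right m
  rw [hm] at h2
  exact h2

theorem I5.of_conj {x : Spor.HN} (t : Spor.HN) (h : I5 (t * x * t⁻¹)) : I5 x := by
  intro hx
  obtain ⟨u, hu, hc⟩ := h (by rw [conj_pow, hx, mul_one, mul_inv_cancel])
  refine ⟨t⁻¹ * u * t, ?_, ?_⟩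
  · have e : t⁻¹ * u * t = MulAut.conj t⁻¹ u := by rw [MulAut.conj_apply, inv_inv]
    rw [e, MulEquiv.orderOf_eq, hu]
  · calc t⁻¹ * u * t * x = t⁻¹ * (u * (t * x * t⁻¹)) * t := by group
      _ = t⁻¹ * (t * x * t⁻¹ * u) * t := by rw [hc]
      _ = x * (t⁻¹ * u * t) := by group

theorem I5.of_inv {u x : Spor.HN} (h2 : u * u = 1) (h1 : u ≠ 1) (hc : u * x = x * u) : I5 x := fun _ =>
  ⟨u, orderOf_eq_prime (by rw [pow_two, h2]) h1, hc⟩

/-- conjugation -/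
theorem step_conj {g : Spor.HN} (hW : g * W = W * g)
    {a0 a1 a2 a3 b0 b1 b2 b3 c0 c1 c2 c3 e0 e1 e2 e3 : ℕ} {a4 b4 c4 e4 : ℤ}
    (hA : g * A = nf W A B C₁ D a0 a1 a2 a3 a4 * g) (hB : g * B = nf W A B C₁ D b0 b1 b2 b3 b4 * g)
    (hC : g * C₁ = nf W A B C₁ D c0 c1 c2 c3 c4 * g) (hD : g * D = nf W A B C₁ D e0 e1 e2 e3 e4 * g) {v : ℕ}
    (h : ∀ m, I5 (nv (en (d0 v * a0 + d1 v * b0 + d2 v * c0 + d3 v * e0) (d0 v * a1 + d1 v * b1 + d2 v * c1 + d3 v * e1)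
      (d0 v * a2 + d1 v * b2 + d2 v * c2 + d3 v * e2) (d0 v * a3 + d1 v * b3 + d2 v * c3 + d3 v * e3)) m)) :
    ∀ m, I5 (nv v m) := by
  intro m
  apply I5.of_conj g
  obtain ⟨m', hm⟩ := conj_nf hW hA hB hC hD (d0 v) (d1 v) (d2 v) (d3 v) m
  rw [nv, hm]
  have h1 := h m'
  rw [← nf_en] at h1
  push_cast at h1
  exact h1

theorem move1 (g v : ℕ) (h : ∀ m, I5 (nv (mv1 g v) m)) : ∀ m, I5 (nv v m) := by
  rcases g with _ | _ | _ | g
  · refine step_conj FW (by exact_mod_cast e_fa1) (by exact_mod_cast e_fb1) (by exact_mod_cast e_fa2)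
      (by exact_mod_cast e_fb2) fun m => ?_
    refine Eq.mp ?_ (h m)
    congr 2
    exact en_congr (by ring) (by ring) (by ring) (by ring)
  · refine step_conj e_tauw (by exact_mod_cast e_taua1) (by exact_mod_cast e_taub1) (by exact_mod_cast e_taua2)
      (by exact_mod_cast e_taub2) fun m => ?_
    refine Eq.mp ?_ (h m)
    congr 2
    exact en_congr (by ring) (by ring) (by ring) (by ring)
  · refine step_conj e_kw (by exact_mod_cast e_ka1) (by exact_mod_cast e_kb1) (by exact_mod_cast e_ka2)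
      (by exact_mod_cast e_kb2) fun m => ?_
    refine Eq.mp ?_ (h m)
    congr 2
    exact en_congr (by ring) (by ring) (by ring) (by ring)
  · intro m
    apply I5.of_pow (n := 2) (by norm_num)
    obtain ⟨e, -, h1⟩ := ext.nf_pow (d0 v) (d1 v) (d2 v) (d3 v) m 2
    rw [nv, h1]
    have h2 : mv1 (g + 3) v = en (2 * d0 v) (2 * d1 v) (2 * d2 v) (2 * d3 v) := rfl
    have h3 := h (((2 : ℕ) : ℤ) * m - e * ((d0 v : ℤ) * (d1 v : ℤ) + (d2 v : ℤ) * (d3 v : ℤ)))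
    rw [h2, ← nf_en] at h3
    push_cast at h3 ⊢
    exact h3

/-- the central part of a normal form can be changed by conjugation -/
theorem rep_all {r0 r1 r2 r3 : ℤ} (s0 s1 s2 s3 : ℤ) (hω : s0 * r1 - r0 * s1 + s2 * r3 - r2 * s3 = 1)
    (h : I5 (nf W A B C₁ D r0 r1 r2 r3 0)) (m : ℤ) : I5 (nf W A B C₁ D r0 r1 r2 r3 m) := by
  apply I5.of_conj (nf W A B C₁ D (-m * s0) (-m * s1) (-m * s2) (-m * s3) 0)
  rw [ext.nf_mul_comm, mul_assoc (W ^ _), mul_inv_cancel_right]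
  have h1 : -m * s0 * r1 - r0 * (-m * s1) + -m * s2 * r3 - r2 * (-m * s3) = -m := by
    linear_combination (-m) * hω
  rw [h1]
  have h2 : W ^ (-m) = nf W A B C₁ D 0 0 0 0 (-m) := by simp [nf]
  rw [h2, ext.nf_mul]
  have h3 : nf W A B C₁ D (0 + r0) (0 + r1) (0 + r2) (0 + r3) (-m + m - r0 * 0 - r2 * 0) =
      nf W A B C₁ D r0 r1 r2 r3 0 := by
    congr 1 <;> ring
  rw [h3]
  exact h

/-! ### the coset of `F` -/

theorem move2 (g v : ℕ) (h : ∀ m, I5 (nv (mv2 g v) m * F)) : ∀ m, I5 (nv v m * F) := by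
  intro m
  have key : ∀ (s : Spor.HN) (a0 a1 a2 a3 a4 s0 s1 s2 s3 : ℤ) (c0 c1 c2 c3 : ℕ),
      s⁻¹ = nf W A B C₁ D s0 s1 s2 s3 0 → F * s = nf W A B C₁ D a0 a1 a2 a3 a4 * F →
      (5 : ℤ) ∣ s0 + a0 - c0 → (5 : ℤ) ∣ s1 + a1 - c1 → (5 : ℤ) ∣ s2 + a2 - c2 → (5 : ℤ) ∣ s3 + a3 - c3 →
      (∀ m, I5 (nv (en (d0 v + c0) (d1 v + c1) (d2 v + c2) (d3 v + c3)) m * F)) → I5 (nv v m * F) := by
    intro s a0 a1 a2 a3 a4 s0 s1 s2 s3 c0 c1 c2 c3 hs hF h0 h1 h2 h3 hv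
    apply I5.of_conj s⁻¹
    obtain ⟨m', hm⟩ := step_F hs hF (d0 v) (d1 v) (d2 v) (d3 v) m
    rw [nv, hm]
    have h4 := hv m'
    rw [← nf_en] at h4
    rw [nf_mod (i' := ((d0 v + c0 : ℕ) : ℤ)) (j' := ((d1 v + c1 : ℕ) : ℤ)) (u' := ((d2 v + c2 : ℕ) : ℤ))
      (l' := ((d3 v + c3 : ℕ) : ℤ)) (by push_cast; omega) (by push_cast; omega) (by push_cast; omega)
      (by push_cast; omega)]
    exact h4
  rcases g with _ | _ | _ | g
  · exact key A _ _ _ _ _ (-1) 0 0 0 4 0 4 4 (by simp [nf]) e_fa1 (by norm_num) (by norm_num) (by norm_num) (by norm_num)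
      h
  · exact key B _ _ _ _ _ 0 (-1) 0 0 0 0 0 4 (by simp [nf]) e_fb1 (by norm_num) (by norm_num) (by norm_num) (by norm_num)
      h
  · exact key C₁ _ _ _ _ _ 0 0 (-1) 0 4 1 3 4 (by simp [nf]) e_fa2 (by norm_num) (by norm_num) (by norm_num)
      (by norm_num) h
  · exact key D _ _ _ _ _ 0 0 0 (-1) 4 0 4 3 (by simp [nf]) e_fb2 (by norm_num) (by norm_num) (by norm_num) (by norm_num)
      h

/-- the elements of order 25 -/
theorem i5_c {u : ℕ} (h : (C₁ ^ u * F) ^ 5 ≠ 1) (m : ℤ) : I5 (nf W A B C₁ D 0 0 u 0 m * F) := by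
  intro h1
  exfalso
  apply h
  have cF : Commute (W ^ m) F := (show Commute W F from FW.symm).zpow_left m
  have cC : Commute (W ^ m) (C₁ ^ u) := ((show Commute W C₁ from ext.wc).zpow_left m).pow_right u
  have h2 : nf W A B C₁ D 0 0 u 0 m * F = C₁ ^ u * F * W ^ m := by
    simp only [nf, zpow_zero, one_mul, mul_one, zpow_natCast]
    rw [mul_assoc, cF.eq, ← mul_assoc]
  have h3 : Commute (C₁ ^ u * F) (W ^ m) := Commute.mul_left cC.symm cF.symm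
  rw [h2, h3.mul_pow] at h1
  have h4 : (W ^ m) ^ 5 = 1 := by
    rw [← zpow_natCast, ← zpow_mul, mul_comm, zpow_mul, zpow_natCast, e_w5, one_zpow]
  rwa [h4, mul_one] at h1

theorem u1_Wm (m : ℤ) : u1 * W ^ m = W ^ m * u1 := (show Commute u1 W from u1_W).zpow_right m

theorem goodF : ∀ v < 625, ∀ m, I5 (nv v m * F) := by
  intro v hv
  refine all_of_rank (P := fun v => ∀ m, I5 (nv v m * F)) chk2 move2 ?_ _ v (Nat.lt_succ_self _) hv
    (fun h => absurd h (by decide))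
  intro v hv m
  simp only [List.mem_cons, List.not_mem_nil, or_false] at hv
  have hc : ∀ u : ℕ, u < 5 → nv (25 * u) m = nf W A B C₁ D 0 0 u 0 m := by
    intro u hu
    rw [nv, d0e, d1e, d2e, d3e]
    apply nf_eq <;> omega
  rcases hv with rfl | rfl | rfl | rfl | rfl
  · have h0 : nv 0 m = W ^ m := by simp [nv, nf, d0e, d1e, d2e, d3e]
    rw [h0]
    refine I5.of_inv sq_u1 ne_u1 ?_
    rw [← mul_assoc, u1_Wm, mul_assoc, u1_F, mul_assoc]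
  · rw [show (25 : ℕ) = 25 * 1 from rfl, hc 1 (by decide)]
    exact i5_c (by simpa only [pow_one] using T3.r_c1) m
  · rw [show (50 : ℕ) = 25 * 2 from rfl, hc 2 (by decide)]
    exact i5_c (by simpa only [pow_succ, pow_zero, one_mul, mul_assoc] using T3.r_c2) m
  · rw [show (75 : ℕ) = 25 * 3 from rfl, hc 3 (by decide)]
    refine i5_c ?_ m
    have h3 : C₁ ^ 3 * F = C₁ * (C₁ * (C₁ * F)) := by simp only [pow_succ, pow_zero, one_mul, mul_assoc]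
    rw [h3]
    exact T3.r_c3
  · rw [show (100 : ℕ) = 25 * 4 from rfl, hc 4 (by decide)]
    refine i5_c ?_ m
    have h3 : C₁ ^ 4 * F = C₁ * (C₁ * (C₁ * (C₁ * F))) := by simp only [pow_succ, pow_zero, one_mul, mul_assoc]
    rw [h3]
    exact T3.r_c4

theorem coprime_of {s : ℤ} {t : ℕ} (h : (5 : ℤ) ∣ s * t - 1) : t.Coprime 5 := by
  rw [Nat.coprime_comm]
  refine (Nat.Prime.coprime_iff_not_dvd Nat.prime_five).2 ?_
  rintro ⟨r, rfl⟩
  push_cast at h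
  have h1 : (5 : ℤ) ∣ s * (5 * r) := ⟨s * r, by ring⟩
  have h2 : (5 : ℤ) ∣ 1 := by
    have := dvd_sub h1 h
    simp at this
  norm_num at h2

theorem exists_inv {s : ℤ} (hs : ¬ (5 : ℤ) ∣ s) : ∃ t : ℕ, (5 : ℤ) ∣ s * t - 1 := by
  have h4 : s % 5 = 1 ∨ s % 5 = 2 ∨ s % 5 = 3 ∨ s % 5 = 4 := by omega
  rcases h4 with h | h | h | h
  · exact ⟨1, by push_cast; omega⟩
  · exact ⟨3, by push_cast; omega⟩
  · exact ⟨2, by push_cast; omega⟩
  · exact ⟨4, by push_cast; omega⟩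

/-- the elements of the cosets `Q F ^ s` -/
theorem good_coset {q : Spor.HN} (hq : q ∈ ext.Q) {s : ℤ} (h5 : ¬ (5 : ℤ) ∣ s) : I5 (q * F ^ s) := by
  obtain ⟨t, ht⟩ := exists_inv h5
  apply I5.of_pow (coprime_of ht)
  obtain ⟨q', hq', he⟩ := pow_form hq s t
  rw [he, zpow_eq F5 (i := s * t) (j := 1) ht, zpow_one]
  obtain ⟨i, j, u, l, m, rfl⟩ := hq'
  obtain ⟨v, hv, he⟩ := exists_code i j u l m
  rw [he]
  exact goodF v hv m

theorem goodW : I5 W := I5.of_inv sq_u1 ne_u1 u1_W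

/-- an element of `Q` conjugate to an element of `Q F ²` -/
theorem good_mix (m : ℤ) : I5 (nv 327 m) := by
  apply I5.of_conj Cfsg.Agent.H839.Rad.HN.G
  set G := Cfsg.Agent.H839.Rad.HN.G with hG
  have e : G * nv 327 m * G⁻¹ = (G * A * G⁻¹) ^ 2 * (G * C₁ * G⁻¹) ^ 3 * ((G * D * G⁻¹) ^ 2 * (G * W * G⁻¹) ^ m) := by
    have h0 : nv 327 m = A ^ 2 * C₁ ^ 3 * (D ^ 2 * W ^ m) := by
      have h1 : nv 327 m = nf W A B C₁ D 2 0 3 2 m := by
        rw [nv, d0e, d1e, d2e, d3e]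
        norm_num
      rw [h1]
      simp only [nf]
      norm_num
      rw [mul_assoc]
    rw [h0]
    simp only [conj_pow, conj_zpow]
    group
  rw [e, G_A, ← F_eq]
  have h2 : F ^ 2 * (G * W * G⁻¹) ^ m = (F ^ (2 : ℤ) * (G * W * G⁻¹) ^ m * (F ^ (2 : ℤ))⁻¹) * F ^ (2 : ℤ) := by
    rw [inv_mul_cancel_right]
    norm_cast
  rw [h2, ← mul_assoc]
  refine good_coset ?_ (by norm_num)
  exact mul_mem (mul_mem (pow_mem ext.w_mem _) (pow_mem GC_mem _)) (Fz_Q 2 _ (zpow_mem W₁_mem _))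

/-! ### `Q` -/

theorem goodQ : ∀ v < 625, v ≠ 0 → ∀ m, I5 (nv v m) := by
  intro v hv h0
  refine all_of_rank (P := fun v => ∀ m, I5 (nv v m)) chk1 move1 ?_ _ v (Nat.lt_succ_self _) hv (fun _ => h0)
  intro v hv
  simp only [List.mem_cons, List.not_mem_nil, or_false] at hv
  rcases hv with rfl | rfl | rfl | rfl | rfl
  · intro m
    refine rep_all (r0 := ((d0 1 : ℕ) : ℤ)) (r1 := ((d1 1 : ℕ) : ℤ)) (r2 := ((d2 1 : ℕ) : ℤ)) (r3 := ((d3 1 : ℕ) : ℤ))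
      0 (-1) 0 0 (by decide) ?_ m
    have h : nf W A B C₁ D ((d0 1 : ℕ) : ℤ) ((d1 1 : ℕ) : ℤ) ((d2 1 : ℕ) : ℤ) ((d3 1 : ℕ) : ℤ) 0 = A := by
      simp [nf, d0e, d1e, d2e, d3e]
    rw [h]
    apply I5.of_conj Cfsg.Agent.H839.Rad.HN.G
    rw [G_A]
    exact goodW
  · intro m
    refine rep_all (r0 := ((d0 125 : ℕ) : ℤ)) (r1 := ((d1 125 : ℕ) : ℤ)) (r2 := ((d2 125 : ℕ) : ℤ))
      (r3 := ((d3 125 : ℕ) : ℤ)) 0 0 1 0 (by decide) ?_ m
    have h : nf W A B C₁ D ((d0 125 : ℕ) : ℤ) ((d1 125 : ℕ) : ℤ) ((d2 125 : ℕ) : ℤ) ((d3 125 : ℕ) : ℤ) 0 = D := by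
      simp [nf, d0e, d1e, d2e, d3e]
    rw [h]
    exact I5.of_inv sq_u2 ne_u2 u2_D
  · exact move1 0 25 (move1 0 _ good_mix)
  · intro m
    refine rep_all (r0 := ((d0 255 : ℕ) : ℤ)) (r1 := ((d1 255 : ℕ) : ℤ)) (r2 := ((d2 255 : ℕ) : ℤ))
      (r3 := ((d3 255 : ℕ) : ℤ)) 1 0 0 0 (by decide) ?_ m
    have h : nf W A B C₁ D ((d0 255 : ℕ) : ℤ) ((d1 255 : ℕ) : ℤ) ((d2 255 : ℕ) : ℤ) ((d3 255 : ℕ) : ℤ) 0 =
        B * (D * D) := by
      simp [nf, d0e, d1e, d2e, d3e, pow_two]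
    rw [h]
    exact I5.of_inv sq_u3 ne_u3 u3_v
  · intro m
    refine rep_all (r0 := ((d0 251 : ℕ) : ℤ)) (r1 := ((d1 251 : ℕ) : ℤ)) (r2 := ((d2 251 : ℕ) : ℤ))
      (r3 := ((d3 251 : ℕ) : ℤ)) 0 (-1) 0 0 (by decide) ?_ m
    have h : nf W A B C₁ D ((d0 251 : ℕ) : ℤ) ((d1 251 : ℕ) : ℤ) ((d2 251 : ℕ) : ℤ) ((d3 251 : ℕ) : ℤ) 0 =
        A * (D * D) := by
      simp [nf, d0e, d1e, d2e, d3e, pow_two]
    rw [h]
    exact I5.of_inv sq_u4 ne_u4 u4_v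

/-- **Every element of order 5 of the Harada-Norton group commutes with an involution.** -/
theorem hn_five (x : Spor.HN) (hx : orderOf x = 5) : ∃ u : Spor.HN, orderOf u = 2 ∧ u * x = x * u := by
  have : Fact (Nat.Prime 5) := ⟨by norm_num⟩
  have hx5 : x ^ 5 = 1 := by rw [← hx]; exact pow_orderOf_eq_one x
  obtain ⟨g, hg⟩ := Cfsg.Agent.H478.RadHeis.exists_conj_mem isPGroup_P index_P hx5
  have hgx5 : (g * x * g⁻¹) ^ 5 = 1 := by rw [conj_pow, hx5, mul_one, mul_inv_cancel]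
  have hgx1 : g * x * g⁻¹ ≠ 1 := by
    intro h
    rw [conj_eq_one_iff] at h
    rw [h, orderOf_one] at hx
    omega
  refine I5.of_conj g ?_ hx5
  obtain ⟨q, hq, s, hs⟩ := hg
  rw [hs] at hgx1 ⊢
  by_cases h5 : (5 : ℤ) ∣ s
  · have h1 : F ^ s = 1 := by rw [zpow_eq F5 (i := s) (j := 0) (by simpa using h5), zpow_zero]
    rw [h1, mul_one] at hgx1 ⊢
    obtain ⟨i, j, u, l, m, rfl⟩ := hq
    obtain ⟨v, hv, he⟩ := exists_code i j u l m
    rw [he] at hgx1 ⊢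
    by_cases h0 : v = 0
    · subst h0
      have h2 : nv 0 m = W ^ m := by simp [nv, nf, d0e, d1e, d2e, d3e]
      rw [h2]
      exact I5.of_inv sq_u1 ne_u1 (u1_Wm m)
    · exact goodQ v hv h0 m
  · exact good_coset hq h5

end Cfsg.Agent.H705.OreB.HNFive
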