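import Cfsg.Agent.H829.Pw.BSeven
import Cfsg.Agent.H139.LD.Struct13
import Cfsg.Agent.H715.Mon.RowB47
import Cfsg.Agent.H180.TriH.RowBM
import Cfsg.Agent.H630.NHBabyC

/-!
# Row B of Ore: the centralizers of the elements of prime order `q ≥ 7`, `q ≠ 23`, of the Baby Monster (helper705)
-/

set_option autoImplicit false
set_option maxRecDepth 100000

namespace Cfsg.Agent.H705.OreB.Small

open Cfsg Cfsg.Agent
open Cfsg.Agent.MonsterX Cfsg.Agent.MonsterX.InstData
open Cfsg.Agent.H940.Eng (Base)
open Cfsg.Agent.H715.Mon.Cent Cfsg.Agent.H715.Mon.Grp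
open Cfsg.Agent.H241.Mon (Gam)
open Cfsg.Agent.LThreeB (XT mem_XT)
open Subgroup (centralizer mem_centralizer_singleton_iff card_dvd_of_le)

universe u

variable {L : Type u} [Group L] [Finite L]

/-- the prime divisors of `|B|` -/
theorem primes {q : ℕ} (hq : q.Prime) (hd : q ∣ 4154781481226426191177580544000000) :
    q = 2 ∨ q = 3 ∨ q = 5 ∨ q = 7 ∨ q = 11 ∨ q = 13 ∨ q = 17 ∨ q = 19 ∨ q = 23 ∨ q = 31 ∨ q = 47 := by
  have h1 : (4154781481226426191177580544000000 : ℕ) =
      2 ^ 41 * 3 ^ 13 * 5 ^ 6 * 7 ^ 2 * 11 * 13 * 17 * 19 * 23 * 31 * 47 := by norm_num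
  rw [h1] at hd
  have key : ∀ {p k : ℕ}, p.Prime → q ∣ p ^ k → q = p := fun hp h =>
    (Nat.prime_dvd_prime_iff_eq hq hp).1 (hq.dvd_of_dvd_pow h)
  have key' : ∀ {p : ℕ}, p.Prime → q ∣ p → q = p := fun hp h => (Nat.prime_dvd_prime_iff_eq hq hp).1 h
  rcases hq.dvd_mul.1 hd with hd | hd
  rcases hq.dvd_mul.1 hd with hd | hd
  rcases hq.dvd_mul.1 hd with hd | hd
  rcases hq.dvd_mul.1 hd with hd | hd
  rcases hq.dvd_mul.1 hd with hd | hd
  rcases hq.dvd_mul.1 hd with hd | hd
  rcases hq.dvd_mul.1 hd with hd | hd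
  rcases hq.dvd_mul.1 hd with hd | hd
  rcases hq.dvd_mul.1 hd with hd | hd
  rcases hq.dvd_mul.1 hd with hd | hd
  · have := key Nat.prime_two hd; omega
  · have := key Nat.prime_three hd; omega
  · have := key Nat.prime_five hd; omega
  · have := key (by norm_num) hd; omega
  · have := key' (by norm_num) hd; omega
  · have := key' (by norm_num) hd; omega
  · have := key' (by norm_num) hd; omega
  · have := key' (by norm_num) hd; omega
  · have := key' (by norm_num) hd; omega
  · have := key' (by norm_num) hd; omega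
  · have := key' (by norm_num) hd; omega

/-- order 11 -/
theorem eleven (B : Base) (h : Spor.IsoB L) {s : L} (hs : orderOf s = 11) :
    Nat.card ↥(centralizer ({s} : Set L)) * 2 ≤ 11 * 95040 := by
  have hfin : Finite H630.Baby.Mon := MThirteen.Row.finite
  obtain ⟨t, x, ht, hx, hxt, hc⟩ := H630.Baby.exists_lift_card h (by norm_num) (by norm_num) hs
  rw [← hc, ← (H746.MEleven.cent_good B.table (fun X _ _ hX => B.known X hX) hx (MThirteen.Row.ta_order ht) hxt.symm).1]
  refine Nat.le_of_dvd Nat.card_pos (card_dvd_of_le fun g hg => ?_)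
  exact mem_centralizer_singleton_iff.2 (mem_XT.1 hg).1

/-- through the Monster -/
theorem of_mon (h : Spor.IsoB L) {q c : ℕ} (hq : q.Prime) (h2 : q ≠ 2)
    (hc : ∀ x : Gam, orderOf x = q → Nat.card (centralizer ({x} : Set Gam)) ≤ c) {s : L} (hs : orderOf s = q) :
    Nat.card ↥(centralizer ({s} : Set L)) * 2 ≤ c := by
  obtain ⟨x, hx, hd⟩ := H715.Mon.RowB.exists_cent h hq h2 hs
  have : 0 < Nat.card (centralizer ({x} : Set Gam)) := by
    rcases Nat.eq_zero_or_pos (Nat.card (centralizer ({x} : Set Gam))) with h0 | h0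
    · exfalso
      have hfin : Finite H630.Baby.Mon := MThirteen.Row.finite
      exact Nat.card_pos.ne' h0
    · exact h0
  exact (Nat.le_of_dvd this hd).trans (hc x hx)

/-- **Prime order `q ≥ 7`, `q ≠ 23`.** -/
theorem le_small (B : Base) (h : Spor.IsoB L) {q : ℕ} (hq : q.Prime) (h7 : 7 ≤ q) (h23 : q ≠ 23) {s : L}
    (hs : orderOf s = q) : Nat.card ↥(centralizer ({s} : Set L)) ≤ 564480 := by
  have hqd : q ∣ 4154781481226426191177580544000000 := by
    rw [← NotCT.Orders.b h, ← hs]
    exact orderOf_dvd_natCard s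
  rcases primes hq hqd with rfl | rfl | rfl | rfl | rfl | rfl | rfl | rfl | rfl | rfl | rfl
  · omega
  · omega
  · omega
  · exact H829.Pw.card_cent_seven h hs
  · have := eleven B h hs
    omega
  · rw [(H139.LD.struct13 h hs).1]
    norm_num
  · have := of_mon h (c := 168 * 17) (by norm_num) (by norm_num)
      (fun y hy => Nat.le_of_dvd (by norm_num) (Cfsg.Agent.H241.Mon.card_seventeen (three B) hy)) hs
    omega
  · have := of_mon h (c := 60 * 19) (by norm_num) (by norm_num) (fun y hy => card19 (sThree B) hy) hs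
    omega
  · exact absurd rfl h23
  · have := of_mon h (c := 6 * 31) (by norm_num) (by norm_num) (fun y hy => (card31 (sThree B) hy).le) hs
    omega
  · have := of_mon h (c := 47 * 2) (by norm_num) (by norm_num)
      (fun y hy => (H436.MonLoc.card47 B.known hy).le) hs
    omega

end Cfsg.Agent.H705.OreB.Small
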