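import Cfsg.Agent.H705.OreB.Five
import Cfsg.Agent.H705.OreB.Small
import Cfsg.Agent.H480.Ore.BPrimes

/-!
# Row B of Ore, piece S4: the centralizers of the elements of prime order `p ≥ 5` (helper705)
-/

set_option autoImplicit false

namespace Cfsg.Agent.H705.OreB.Prime

open Cfsg Cfsg.Agent
open Cfsg.Agent.H940.Eng (Base)
open Cfsg.Agent.H715.Mon.Grp
open Subgroup (centralizer)

universe u

/-- **`|C_B(y)| ≤ 7700000000` for `y` of prime order `p ≥ 5`.** -/
theorem prime_le (B : Base) {L : Type u} [Group L] [Finite L] (h : Spor.IsoB L) (y : L) (hp : (orderOf y).Prime)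
    (h5 : 5 ≤ orderOf y) : Nat.card ↥(centralizer ({y} : Set L)) ≤ 7700000000 := by
  by_cases e5 : orderOf y = 5
  · exact (Five.five h e5).trans (by norm_num)
  have h7 : 7 ≤ orderOf y := by
    by_contra hcon
    have h6 : orderOf y = 6 := by omega
    rw [h6] at hp
    norm_num at hp
  by_cases e23 : orderOf y = 23
  · exact H480.Ore.BPrimes.card_big (sThree B) h (Or.inr (Or.inr (Or.inl e23)))
  exact (Small.le_small B h hp h7 e23 rfl).trans (by norm_num)

end Cfsg.Agent.H705.OreB.Prime
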