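import Cfsg.Agent.H705.OreB.HNFive
import Cfsg.Agent.H569.BFive

/-!
# Every element of order 5 of the Baby Monster commutes with an involution (helper705)
-/

set_option autoImplicit false

namespace Cfsg.Agent.H705.OreB.BInvFive

open Subgroup Cfsg Cfsg.Agent.H981.InvHN

/-- an embedding with the full power of `5` -/
theorem of_hom {G : Type*} [Group G] [Finite G] (f : Spor.HN →* G) (hf : Function.Injective f)
    (hc : ¬ 5 ^ 7 ∣ Nat.card G) {y : G} (hy : orderOf y = 5) : ∃ u : G, orderOf u = 2 ∧ u * y = y * u := by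
  have : Fact (Nat.Prime 5) := ⟨Nat.prime_five⟩
  have hP : IsPGroup 5 ↥(P.map f) := isPGroup_P.map f
  have h6 : 5 ^ 6 ∣ Nat.card ↥(P.map f) := by
    rw [card_map_of_injective hf]
    have h1 := P.card_mul_index
    rw [card_HN] at h1
    have h2 : (5 ^ 6).Coprime P.index := Nat.Coprime.pow_left 6
      ((Nat.Prime.coprime_iff_not_dvd Nat.prime_five).2 index_P)
    refine h2.dvd_of_dvd_mul_right (?_ : 5 ^ 6 ∣ Nat.card ↥P * P.index)
    rw [h1]
    norm_num
  have hi : ¬ 5 ∣ (P.map f).index := by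
    rintro ⟨r, hr⟩
    apply hc
    obtain ⟨s, hs⟩ := h6
    refine ⟨s * r, ?_⟩
    rw [← (P.map f).card_mul_index, hs, hr]
    ring
  have hy5 : y ^ 5 = 1 := by rw [← hy]; exact pow_orderOf_eq_one y
  obtain ⟨g, hg⟩ := Cfsg.Agent.H478.RadHeis.exists_conj_mem hP hi hy5
  obtain ⟨x, -, hx⟩ := hg
  have hx5 : orderOf x = 5 := by
    rw [← orderOf_injective f hf x, hx]
    have e : g * y * g⁻¹ = MulAut.conj g y := by rw [MulAut.conj_apply]
    rw [e, MulEquiv.orderOf_eq, hy]
  obtain ⟨u, hu, hc⟩ := HNFive.hn_five x hx5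
  refine ⟨g⁻¹ * f u * g, ?_, ?_⟩
  · have e : g⁻¹ * f u * g = MulAut.conj g⁻¹ (f u) := by rw [MulAut.conj_apply, inv_inv]
    rw [e, MulEquiv.orderOf_eq, orderOf_injective f hf, hu]
  · have h1 : f u * (g * y * g⁻¹) = (g * y * g⁻¹) * f u := by rw [← hx, ← map_mul, hc, map_mul]
    calc g⁻¹ * f u * g * y = g⁻¹ * (f u * (g * y * g⁻¹)) * g := by group
      _ = g⁻¹ * ((g * y * g⁻¹) * f u) * g := by rw [h1]
      _ = y * (g⁻¹ * f u * g) := by group

/-- **Every element of order 5 of the Baby Monster commutes with an involution.** -/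
theorem exists_inv {L : Type*} [Group L] (h : Spor.IsoB L) {y : L} (hy : orderOf y = 5) :
    ∃ u : L, orderOf u = 2 ∧ u * y = y * u := by
  obtain ⟨e⟩ := h
  obtain ⟨f, hf⟩ := Cfsg.Agent.H569.BFive.exists_hom
  have hB : Nat.card Cfsg.Spor.BabyMonster = 4154781481226426191177580544000000 := BM.KHAll.card_B
  have hfin : Finite Cfsg.Spor.BabyMonster := Nat.finite_of_card_ne_zero (by rw [hB]; norm_num)
  obtain ⟨u, hu, hc⟩ := of_hom f hf (by rw [hB]; norm_num) (y := e y) (by rw [MulEquiv.orderOf_eq, hy])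
  refine ⟨e.symm u, by rw [MulEquiv.orderOf_eq, hu], ?_⟩
  apply e.injective
  rw [map_mul, map_mul, e.apply_symm_apply, hc]

end Cfsg.Agent.H705.OreB.BInvFive
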