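import Cfsg.Agent.H705.OreB.FiveRad
import Cfsg.Agent.H705.OreB.BInvFive
import Cfsg.Agent.H630.NHBabyC

/-!
# Row B of Ore: the centralizers of the elements of order 5 of the Baby Monster (helper705)

`five` : `|C_B(y)| ≤ 1134000000` for `y` of order 5.
-/

set_option autoImplicit false
set_option maxRecDepth 100000

namespace Cfsg.Agent.H705.OreB.Five

open Cfsg Cfsg.Agent Cfsg.Agent.MonsterX Cfsg.Agent.MonsterX.InstData Cfsg.Agent.MonsterX.MainPack Cfsg.Agent.MonsterU
open Cfsg.Agent.MonsterP Cfsg.Agent.MonsterN Cfsg.Agent.LThree Cfsg.Agent.LThreeMB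
open Cfsg.Agent.MonsterX.MainBasic Cfsg.Agent.MonsterX.MainSimple Cfsg.Agent.MonsterX.Model
open Cfsg.Agent.LThreeB (XT mem_XT centXT centXT' conjXT)
open Subgroup (centralizer mem_centralizer_singleton_iff center card_dvd_of_le zpowers)
open Cfsg.Agent.H979.BAdj Cfsg.Agent.H979.CovLift Cfsg.Agent.H979.OddB
open Cfsg.Agent.H630.NH Cfsg.Agent.H241.NH Cfsg.Agent.H630.Baby
open Cfsg.Agent.H705.OreB.FiveRad

universe u

/-- **The centralizers of the elements of order 5 of the Baby Monster.** -/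
theorem five {L : Type u} [Group L] [Finite L] (h : Spor.IsoB L) {y : L} (hy : orderOf y = 5) :
    Nat.card ↥(centralizer ({y} : Set L)) ≤ 1134000000 := by
  have hfin : Finite Mon := MThirteen.Row.finite
  obtain ⟨w, hw, hwy⟩ := BInvFive.exists_inv h hy
  obtain ⟨t, ht, h2, ⟨e⟩⟩ := exists_cover h
  obtain ⟨a, ha, ha'⟩ := exists_lift h2 Nat.prime_five (by norm_num) (x := e.symm y) (by rw [MulEquiv.orderOf_eq, hy])
  have ha5 : a ^ 5 = 1 := by rw [← ha, pow_orderOf_eq_one]
  have h4 : 4 ∣ Nat.card ↥(centralizer ({(a : Mon)} : Set Mon)) :=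
    four_dvd h2 e (by decide : Odd 5) ha5 hw (by rw [ha', e.apply_symm_apply, hwy])
  have haM : orderOf (a : Mon) = 5 := by rw [Subgroup.orderOf_coe, ha]
  have hex := (CpAutBFive.EvenRow.cases haM).resolve_right fun h => h h4
  have hc : Nat.card ↥(XT (a : Mon) t) = Nat.card ↥(centralizer ({y} : Set L)) * 2 := by
    have h3 := card_cent h2 e Nat.prime_five (by norm_num) ha
    rw [ha', e.apply_symm_apply] at h3
    rw [← h3]
    exact Nat.card_congr (centXT a).toEquiv
  rcases five_cases haM (MThirteen.Row.ta_order ht) (MThirteen.Row.ta_ne ht)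
    (mem_centralizer_singleton_iff.1 a.2) hex with h5 | ⟨n, m, h5, h6, h7, h8, h9⟩
  · rw [hc] at h5
    omega
  · have hd : Nat.card ↥(centralizer ({y} : Set L)) ∣ 4154781481226426191177580544000000 := by
      rw [← NotCT.Orders.b h]
      exact Subgroup.card_subgroup_dvd_card _
    have hnm : Nat.card ↥(centralizer ({y} : Set L)) = n * m := by
      rw [hc] at h5
      have : n * (2 * m) = n * m * 2 := by ring
      rw [this] at h5
      omega
    rw [hnm] at hd ⊢
    -- `n` divides `5 ^ 5 * 9 * 21`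
    have h10 : n ∣ 5 ^ 9 * (27 * 7) := by
      have h11 : n ∣ 2 ^ 8 * (5 ^ 9 * (27 * 7)) := h9.trans (by norm_num)
      exact Nat.Coprime.dvd_of_dvd_mul_left (Nat.Coprime.pow_right 8 (Nat.coprime_two_right.2 h8)) h11
    have h12 : ¬ 5 ^ 6 ∣ n := by
      intro h13
      have h14 : 5 ^ 7 ∣ n * m := by
        have h15 : 5 ∣ m := (by norm_num : 5 ∣ 15).trans h7
        have := mul_dvd_mul h13 h15
        rwa [← pow_succ] at this
      have := h14.trans hd
      norm_num at this
    have hn0 : n ≠ 0 := by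
      rintro rfl
      norm_num at h8
    obtain ⟨v, c, hc5, hnc⟩ := Nat.exists_eq_pow_mul_and_not_dvd hn0 5 (by norm_num)
    have hv : v ≤ 5 := by
      by_contra hcon
      exact h12 (hnc ▸ (pow_dvd_pow 5 (show 6 ≤ v by omega)).mul_right c)
    have hcd : c ∣ 27 * 7 := by
      have h1 : c ∣ 5 ^ 9 * (27 * 7) := (hnc ▸ Dvd.intro_left (5 ^ v) rfl : c ∣ n).trans h10
      refine Nat.Coprime.dvd_of_dvd_mul_left ?_ h1
      exact Nat.Coprime.pow_right 9 ((Nat.prime_five.coprime_iff_not_dvd.2 hc5).symm)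
    have hn : n ≤ 5 ^ 5 * (27 * 7) := by
      rw [hnc]
      exact Nat.mul_le_mul (Nat.pow_le_pow_right (by norm_num) hv) (Nat.le_of_dvd (by norm_num) hcd)
    calc n * m ≤ 5 ^ 5 * (27 * 7) * 1920 := Nat.mul_le_mul hn h6
      _ ≤ 1134000000 := by norm_num

end Cfsg.Agent.H705.OreB.Five
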