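import Cfsg.Agent.H981.Inv.HN

/-!
# Involutions commuting with the elements of order 5 of the Harada-Norton group: kernel check (helper705)
-/

set_option autoImplicit false
set_option maxRecDepth 100000

namespace Cfsg.Agent.H705.OreB.HNChk

open Cfsg.Agent.HN Cfsg.Agent.H981.InvHN Cfsg.Agent.Lib.PackMatMul Cfsg.Agent.HN.RepData
open Cfsg.Agent.H839.Rad.HN (evF W A B C₁ D F)
open Cfsg.Agent.Lib.PackMatGroup (get)

/-- the program -/
def pr : List (ℕ × List ℕ) := [
  (8, [6, 8, 12]),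
  (11, [10, 8, 9, 9, 11, 10, 10, 7, 9, 7]),
  (15, [11, 9, 11]),
  (1, [0, 1, 2]),
  (0, [0]),
  (0, [0]),
  (5, [0]),
  (13, [13]),
  (2, [4, 5]),
  (2, [1, 0]),
  (16, [20, 19, 20, 17, 19, 20, 16, 19, 18, 20, 18, 17, 20, 19, 19, 17, 18, 20, 16, 19, 20, 18, 20]),
  (0, [0]),
  (0, [0]),
  (20, [23, 22, 23, 23, 22, 19, 22, 22, 23, 19, 19]),
  (0, [0]),
  (0, [0]),
  (3, [0, 5, 2]),
  (7, [0]),
  (0, [0]),
  (0, [0, 1]),
  (22, [23, 23, 23, 0, 0, 23, 23, 22, 22, 22, 22]),
  (13, []),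
  (2, [14]),
  (3, [3, 15]),
  (26, [28, 28]),
  (26, [29, 29]),
  (32, [33]),
  (6, [6]),
  (7, [28]),
  (29, [8]),
  (9, [35]),
  (36, [10]),
  (10, [10]),
  (11, [37]),
  (38, [12]),
  (12, [12]),
  (13, [11]),
  (12, [14]),
  (14, [14]),
  (15, [13]),
  (14, [16])]

/-- the equalities -/
def es : List (ℕ × ℕ) := [(13, 14), (8, 14), (5, 14), (2, 14), (12, 11), (10, 9), (7, 6), (4, 3), (1, 0)]

/-- the inequalities -/
def ns : List (ℕ × ℕ) := [(20, 14), (19, 14), (18, 14), (17, 14)]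

/-! ### The check

The first 20 steps of `pr` give the elements `τ`, `k` of helper839 (positions 12 and 0), whose matrices `m5`, `m6` are
checked there (`H839.Rad.HN.Seg.s2`), so only the last 21 steps are run. -/

/-- the first steps -/
def prA : List (ℕ × List ℕ) := pr.take 20

/-- the other steps -/
def prC : List (ℕ × List ℕ) := pr.drop 20

/-- known positions after the first steps -/
def ps : List ℕ := [0, 12, 20, 21, 22, 23, 24, 25, 26, 27]

/-- the matrices at these positions -/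
def MC : List ℕ := [H839.Rad.HNLit.m6, 0, 0, 0, 0, 0, 0, 0, 0, 0, 0, 0, H839.Rad.HNLit.m5, 0, 0, 0, 0, 0, 0, 0,
  mW, mA, mB, mC, mD, mF, X, XI]

theorem same0 {G : Type*} [Group G] (a b c d e f x xi y yi z zi t ti : G) :
    (runG prA [a, b, c, d, e, f, x, xi, y, yi, z, zi, t, ti]).getD 0 1 =
      (runG H839.Rad.HN.Seg.w2 (runG H839.Rad.HN.Seg.w1 [x, xi, y, yi, z, zi, t, ti])).getD 13 1 := by rfl

theorem same12 {G : Type*} [Group G] (a b c d e f x xi y yi z zi t ti : G) :
    (runG prA [a, b, c, d, e, f, x, xi, y, yi, z, zi, t, ti]).getD 12 1 =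
      (runG H839.Rad.HN.Seg.w2 (runG H839.Rad.HN.Seg.w1 [x, xi, y, yi, z, zi, t, ti])).getD 17 1 := by rfl

theorem pcA : Cfsg.Agent.H839.SegS.PC C ps (runG prA (gens2.map Rep.rho)) MC := by
  have hg : gens2.map Rep.rho = [Rep.rho W, Rep.rho A, Rep.rho B, Rep.rho C₁, Rep.rho D, Rep.rho F] ++ Rep.LG := by
    unfold gens2
    rw [List.map_append, Rep.gens_map]
    rfl
  have h2 := H839.Rad.HN.Seg.s2.1
  have ho : ∀ m, m < 14 → CodesR C ((runG prA (gens2.map Rep.rho)).getD (m + 20) 1) (get L2 m) := by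
    intro m hm
    have h3 := Cfsg.Agent.H839.SegS.runG_old prA (gens2.map Rep.rho) m
    have h4 : prA.length = 20 := rfl
    rw [h4] at h3
    rw [h3]
    exact codesR_get codes2 hm
  intro i hi
  have hi2 : i = 0 ∨ i = 12 ∨ i = 20 ∨ i = 21 ∨ i = 22 ∨ i = 23 ∨ i = 24 ∨ i = 25 ∨ i = 26 ∨ i = 27 := by
    simpa [ps] using hi
  rcases hi2 with rfl | rfl | rfl | rfl | rfl | rfl | rfl | rfl | rfl | rfl
  · rw [hg, Rep.LG]
    have h5 := h2 13 (by decide)
    rw [Rep.LG] at h5
    rw [← same0 (Rep.rho W) (Rep.rho A) (Rep.rho B) (Rep.rho C₁) (Rep.rho D) (Rep.rho F)] at h5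
    exact h5
  · rw [hg, Rep.LG]
    have h5 := h2 17 (by decide)
    rw [Rep.LG] at h5
    rw [← same12 (Rep.rho W) (Rep.rho A) (Rep.rho B) (Rep.rho C₁) (Rep.rho D) (Rep.rho F)] at h5
    exact h5
  · exact ho 0 (by decide)
  · exact ho 1 (by decide)
  · exact ho 2 (by decide)
  · exact ho 3 (by decide)
  · exact ho 4 (by decide)
  · exact ho 5 (by decide)
  · exact ho 6 (by decide)
  · exact ho 7 (by decide)

theorem chk : Cfsg.Agent.H839.SegS.segS C prC es ns [] MC [] = true := by decide +kernel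

theorem run_eq {G : Type*} [Group G] (LG : List G) : runG pr LG = runG prC (runG prA LG) := by
  have h : pr = prA ++ prC := by rfl
  conv_lhs => rw [h, Cfsg.Agent.H839.SegS.runG_app]

theorem snd : (∀ q ∈ es, S pr q.1 = S pr q.2) ∧ (∀ q ∈ ns, S pr q.1 ≠ S pr q.2) := by
  have h := Cfsg.Agent.H839.SegS.segS_sound H839.Rad.HN.Seg.good pcA chk (by decide +kernel) (by decide +kernel)
    (by decide +kernel)
  rw [← run_eq] at h
  constructor
  · intro q hq
    have := Cfsg.Agent.S1701.result.1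
    apply A12Group.rho_injective
    rw [rho_S, rho_S]
    exact h.2.1 q hq
  · intro q hq h1
    refine h.2.2 q hq ?_
    rw [← rho_S, ← rho_S, h1]

theorem g (m : ℕ) : S pr (41 + m) = gens2.getD m 1 := genS pr m

theorem gl1 {G : Type*} (a b c d e f x : G) (l : List G) : ([a, b, c, d, e, f] ++ l).getD 1 x = b := rfl
theorem gl2 {G : Type*} (a b c d e f x : G) (l : List G) : ([a, b, c, d, e, f] ++ l).getD 2 x = c := rfl
theorem gl4 {G : Type*} (a b c d e f x : G) (l : List G) : ([a, b, c, d, e, f] ++ l).getD 4 x = e := rfl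
theorem gl5 {G : Type*} (a b c d e f x : G) (l : List G) : ([a, b, c, d, e, f] ++ l).getD 5 x = f := rfl

theorem gW : S pr 41 = W := g 0
theorem gA : S pr 42 = A := (g 1).trans (gl1 W A B C₁ D F 1 Rep.gens)
theorem gB : S pr 43 = B := (g 2).trans (gl2 W A B C₁ D F 1 Rep.gens)
theorem gD : S pr 45 = D := (g 4).trans (gl4 W A B C₁ D F 1 Rep.gens)
theorem gF : S pr 46 = F := (g 5).trans (gl5 W A B C₁ D F 1 Rep.gens)
theorem gx : S pr 47 = Rep.x := g 6
theorem gxi : S pr 48 = Rep.x⁻¹ := g 7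

/-- an involution -/
noncomputable def u1 : Cfsg.Spor.HN := S pr 20

/-- an involution -/
noncomputable def u2 : Cfsg.Spor.HN := S pr 19

/-- an involution -/
noncomputable def u3 : Cfsg.Spor.HN := S pr 18

/-- an involution -/
noncomputable def u4 : Cfsg.Spor.HN := S pr 17

theorem v_one : S pr 14 = Rep.x * (Rep.x⁻¹) := by
  have h := stepS (p := pr) (i := 14) (w := [32, 33]) (by decide) (by rfl)
  simp only [evF, mul_one] at h
  rw [h]
  show S pr 47 * (S pr 48) = _
  rw [gx, gxi]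
theorem one_eq : S pr 14 = 1 := by rw [v_one, mul_inv_cancel]
theorem v_v2 : S pr 16 = B * (D * (D)) := by
  have h := stepS (p := pr) (i := 16) (w := [26, 28, 28]) (by decide) (by rfl)
  simp only [evF, mul_one] at h
  rw [h]
  show S pr 43 * (S pr 45 * (S pr 45)) = _
  rw [gB, gD]
theorem v_v3 : S pr 15 = A * (D * (D)) := by
  have h := stepS (p := pr) (i := 15) (w := [26, 29, 29]) (by decide) (by rfl)
  simp only [evF, mul_one] at h
  rw [h]
  show S pr 42 * (S pr 45 * (S pr 45)) = _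
  rw [gA, gD]
theorem v_q1 : S pr 13 = u1 * u1 := by
  have h := stepS (p := pr) (i := 13) (w := [6, 6]) (by decide) (by rfl)
  simp only [evF, mul_one] at h
  rw [h]
  show S pr 20 * S pr 20 = _
  rfl
theorem v_a1 : S pr 12 = u1 * W := by
  have h := stepS (p := pr) (i := 12) (w := [7, 28]) (by decide) (by rfl)
  simp only [evF, mul_one] at h
  rw [h]
  show S pr 20 * S pr 41 = _
  rw [gW]
  rfl
theorem v_b1 : S pr 11 = W * u1 := by
  have h := stepS (p := pr) (i := 11) (w := [29, 8]) (by decide) (by rfl)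
  simp only [evF, mul_one] at h
  rw [h]
  show S pr 41 * S pr 20 = _
  rw [gW]
  rfl
theorem v_c1 : S pr 10 = u1 * F := by
  have h := stepS (p := pr) (i := 10) (w := [9, 35]) (by decide) (by rfl)
  simp only [evF, mul_one] at h
  rw [h]
  show S pr 20 * S pr 46 = _
  rw [gF]
  rfl
theorem v_d1 : S pr 9 = F * u1 := by
  have h := stepS (p := pr) (i := 9) (w := [36, 10]) (by decide) (by rfl)
  simp only [evF, mul_one] at h
  rw [h]
  show S pr 46 * S pr 20 = _
  rw [gF]
  rfl
theorem v_q2 : S pr 8 = u2 * u2 := by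
  have h := stepS (p := pr) (i := 8) (w := [10, 10]) (by decide) (by rfl)
  simp only [evF, mul_one] at h
  rw [h]
  show S pr 19 * S pr 19 = _
  rfl
theorem v_a2 : S pr 7 = u2 * D := by
  have h := stepS (p := pr) (i := 7) (w := [11, 37]) (by decide) (by rfl)
  simp only [evF, mul_one] at h
  rw [h]
  show S pr 19 * S pr 45 = _
  rw [gD]
  rfl
theorem v_b2 : S pr 6 = D * u2 := by
  have h := stepS (p := pr) (i := 6) (w := [38, 12]) (by decide) (by rfl)
  simp only [evF, mul_one] at h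
  rw [h]
  show S pr 45 * S pr 19 = _
  rw [gD]
  rfl
theorem v_q3 : S pr 5 = u3 * u3 := by
  have h := stepS (p := pr) (i := 5) (w := [12, 12]) (by decide) (by rfl)
  simp only [evF, mul_one] at h
  rw [h]
  show S pr 18 * S pr 18 = _
  rfl
theorem v_a3 : S pr 4 = u3 * (B * (D * D)) := by
  have h := stepS (p := pr) (i := 4) (w := [13, 11]) (by decide) (by rfl)
  simp only [evF, mul_one] at h
  rw [h]
  show S pr 18 * S pr 16 = _
  rw [v_v2]
  rfl
theorem v_b3 : S pr 3 = (B * (D * D)) * u3 := by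
  have h := stepS (p := pr) (i := 3) (w := [12, 14]) (by decide) (by rfl)
  simp only [evF, mul_one] at h
  rw [h]
  show S pr 16 * S pr 18 = _
  rw [v_v2]
  rfl
theorem v_q4 : S pr 2 = u4 * u4 := by
  have h := stepS (p := pr) (i := 2) (w := [14, 14]) (by decide) (by rfl)
  simp only [evF, mul_one] at h
  rw [h]
  show S pr 17 * S pr 17 = _
  rfl
theorem v_a4 : S pr 1 = u4 * (A * (D * D)) := by
  have h := stepS (p := pr) (i := 1) (w := [15, 13]) (by decide) (by rfl)
  simp only [evF, mul_one] at h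
  rw [h]
  show S pr 17 * S pr 15 = _
  rw [v_v3]
  rfl
theorem v_b4 : S pr 0 = (A * (D * D)) * u4 := by
  have h := stepS (p := pr) (i := 0) (w := [14, 16]) (by decide) (by rfl)
  simp only [evF, mul_one] at h
  rw [h]
  show S pr 15 * S pr 17 = _
  rw [v_v3]
  rfl
theorem sq_u1 : u1 * u1 = 1 := by
  rw [← v_q1, ← one_eq]
  exact snd.1 (13, 14) (by decide)
theorem ne_u1 : u1 ≠ 1 := by
  intro h
  refine snd.2 (20, 14) (by decide) ?_
  show S pr 20 = S pr 14
  rw [one_eq]
  exact h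
theorem sq_u2 : u2 * u2 = 1 := by
  rw [← v_q2, ← one_eq]
  exact snd.1 (8, 14) (by decide)
theorem ne_u2 : u2 ≠ 1 := by
  intro h
  refine snd.2 (19, 14) (by decide) ?_
  show S pr 19 = S pr 14
  rw [one_eq]
  exact h
theorem sq_u3 : u3 * u3 = 1 := by
  rw [← v_q3, ← one_eq]
  exact snd.1 (5, 14) (by decide)
theorem ne_u3 : u3 ≠ 1 := by
  intro h
  refine snd.2 (18, 14) (by decide) ?_
  show S pr 18 = S pr 14
  rw [one_eq]
  exact h
theorem sq_u4 : u4 * u4 = 1 := by
  rw [← v_q4, ← one_eq]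
  exact snd.1 (2, 14) (by decide)
theorem ne_u4 : u4 ≠ 1 := by
  intro h
  refine snd.2 (17, 14) (by decide) ?_
  show S pr 17 = S pr 14
  rw [one_eq]
  exact h
theorem u1_W : u1 * W = W * u1 := by
  rw [← v_a1, ← v_b1]
  exact snd.1 (12, 11) (by decide)
theorem u1_F : u1 * F = F * u1 := by
  rw [← v_c1, ← v_d1]
  exact snd.1 (10, 9) (by decide)
theorem u2_D : u2 * D = D * u2 := by
  rw [← v_a2, ← v_b2]
  exact snd.1 (7, 6) (by decide)
theorem u3_v : u3 * (B * (D * D)) = (B * (D * D)) * u3 := by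
  rw [← v_a3, ← v_b3]
  exact snd.1 (4, 3) (by decide)
theorem u4_v : u4 * (A * (D * D)) = (A * (D * D)) * u4 := by
  rw [← v_a4, ← v_b4]
  exact snd.1 (1, 0) (by decide)

end Cfsg.Agent.H705.OreB.HNChk
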